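import Groth.Agent.Reduced22.RootBase

/-!
# Sets of roots containing a positive system and stable under the reflections of their symmetric part

These are the parabolic sets of roots: they are closed, and each of their roots is positive for some positive system
contained in the set.
-/

set_option autoImplicit false

namespace Groth.Agent.DynX.ParRoots

open Groth.Agent.RootData RootD

set_option linter.style.haveILetI false
set_option linter.unusedSectionVars false

variable {idx M N : Type} [AddCommGroup M] [AddCommGroup N] [Fintype idx] (P : RootPairing idx ℤ M N)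

/-- A set of roots containing the positive roots of a regular form and stable under the reflections in its
symmetric part. -/
structure Par (R : Set idx) (f : M →+ ℤ) : Prop where
  reg : ∀ r, f (P.root r) ≠ 0
  pos : ∀ r, 0 < f (P.root r) → r ∈ R
  stab : ∀ r ∈ R, P.reflectionPerm r r ∈ R → ∀ c ∈ R, P.reflectionPerm r c ∈ R

variable {P} {R : Set idx} {f : M →+ ℤ}

theorem Par.mem_or_neg (h : Par P R f) (r : idx) : r ∈ R ∨ P.reflectionPerm r r ∈ R := by
  rcases lt_or_gt_of_ne (h.reg r) with h' | h'
  · exact Or.inr (h.pos _ (by rw [root_neg, map_neg]; omega))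
  · exact Or.inl (h.pos r h')

variable [P.IsReduced]

open Classical in
/-- The simple roots of the positive system, with the characterisation of the symmetric part. -/
theorem Par.exists_simple (h : Par P R f) :
    ∃ (Δ : Set idx), ∃ (_ : P.IsCrystallographic) (hΔ : Simple P Δ),
      (∀ r, r ∈ posOf P Δ ↔ 0 < f (P.root r)) ∧
      (∀ r ∈ posOf P Δ, (P.reflectionPerm r r ∈ R ↔
        ∀ a, hΔ.co r a ≠ 0 → P.reflectionPerm a a ∈ R)) := by
  haveI := Groth.Agent.Reduced22.isCrys P
  obtain ⟨b, hb⟩ := Groth.Agent.Reduced22.exists_base_of_closed P {r | 0 < f (P.root r)}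
    (fun x y z hx hy e => by
      show 0 < f (P.root z)
      rw [← e, map_add]
      exact add_pos hx hy)
    (fun a ha h' => by
      have h'' : 0 < f (P.root (P.reflectionPerm a a)) := h'
      rw [root_neg, map_neg] at h''
      have : 0 < f (P.root a) := ha
      omega)
  let Δ : Set idx := (b.support : Set idx)
  have hΔ : Simple P Δ := Simple.of_base b
  have hposIff : ∀ r, r ∈ posOf P Δ ↔ 0 < f (P.root r) := by
    intro r
    refine ⟨fun hr => ?_, fun hr => hb hr⟩
    by_contra hn
    have h1 : P.reflectionPerm r r ∈ posOf P Δ := hb (by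
      show 0 < f (P.root (P.reflectionPerm r r))
      rw [root_neg, map_neg]
      have := h.reg r
      omega)
    exact (hΔ.neg_mem_posOf_iff.mp h1) hr
  refine ⟨Δ, inferInstance, hΔ, hposIff, ?_⟩
  have hR : ∀ r ∈ posOf P Δ, r ∈ R := fun r hr => h.pos r ((hposIff r).mp hr)
  suffices key : ∀ (n : ℕ) (r : idx), r ∈ posOf P Δ → (hΔ.ht r).toNat = n →
      (P.reflectionPerm r r ∈ R ↔ ∀ a, hΔ.co r a ≠ 0 → P.reflectionPerm a a ∈ R) from
    fun r hr => key _ r hr rfl
  intro n
  induction n using Nat.strong_induction_on with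
  | _ n ih =>
  intro r hr hn
  by_cases hsimple : ∀ a ∈ Δ, ∃ b, b ≠ a ∧ hΔ.co r b ≠ 0
  swap
  · push Not at hsimple
    obtain ⟨a, ha, hra⟩ := hsimple
    obtain rfl := hΔ.eq_of_pos_multiple ha hr (isIndiv_of_reduced r) hra
    rw [hΔ.co_simple ha]
    refine ⟨fun hneg x hx => ?_, fun hx => hx r (by simp)⟩
    obtain rfl : x = r := by
      by_contra hne
      exact hx (Pi.single_eq_of_ne hne _)
    exact hneg
  obtain ⟨a, ha, hca, hna⟩ := hΔ.exists_simple_pos hr
  set j := P.reflectionPerm a r with hj
  have hjpos : j ∈ posOf P Δ := hΔ.refl_pos ha hr (hsimple a ha)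
  have hlt : hΔ.ht j < hΔ.ht r := by
    simp only [hj, Simple.ht, hΔ.co_refl ha, Pi.sub_apply, Finset.sum_sub_distrib]
    simp; exact hna
  have hco : ∀ x, x ≠ a → hΔ.co j x = hΔ.co r x := fun x hx => by
    rw [hj, hΔ.co_refl ha, Pi.sub_apply, Pi.single_eq_of_ne hx, sub_zero]
  have hpos := hΔ.ht_pos hjpos
  have hiter := ih (hΔ.ht j).toNat (by omega) j hjpos rfl
  have hnegj : P.reflectionPerm a (P.reflectionPerm j j) = P.reflectionPerm r r := by
    refine P.root.injective ?_
    rw [RootPairing.root_reflectionPerm, root_neg, map_neg, ← RootPairing.root_reflectionPerm, hj,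
      P.reflectionPerm_self, root_neg]
  constructor
  · intro hrneg
    have haI : P.reflectionPerm a a ∈ R := by
      have hx : P.reflectionPerm r a ∉ posOf P Δ := by
        rw [hΔ.notMem_posOf_iff]
        obtain ⟨x, hxa, hx⟩ := hsimple a ha
        intro y
        by_contra hy
        have hy' := hΔ.mem_posOf_iff'.mpr ⟨y, not_le.mp hy⟩
        have h3 := hΔ.mem_posOf_iff.mp hy' x
        have e : hΔ.co (P.reflectionPerm r a) = hΔ.co a - nn P a r • hΔ.co r := by
          refine hΔ.co_unique (fun z hz => by simp [hΔ.co_supp hz]) ?_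
          rw [comb_sub, comb_smul, hΔ.co_spec, hΔ.co_spec, refl_root]
        rw [e, Pi.sub_apply, hΔ.co_simple ha, Pi.single_eq_of_ne hxa, Pi.smul_apply, smul_eq_mul] at h3
        have h4 : 0 < nn P a r := by
          by_contra hc
          exact absurd ((nn_nonpos_comm P).mp (not_lt.mp hc)) (not_le.mpr hna)
        have h5 := (hΔ.mem_posOf_iff.mp hr x).lt_of_ne' hx
        nlinarith
      have h1 := h.stab r (hR r hr) hrneg _ (hR _ (hΔ.neg_mem_posOf_iff.mpr hx))
      convert h1 using 1
      refine P.root.injective ?_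
      rw [root_neg, RootPairing.root_reflectionPerm, root_neg, map_neg, ← RootPairing.root_reflectionPerm,
        P.reflectionPerm_self]
    have hjneg : P.reflectionPerm j j ∈ R := by
      have h1 := h.stab a (hR a (hΔ.subset_posOf ha)) haI _ hrneg
      rw [← hnegj, P.reflectionPerm_self] at h1
      exact h1
    intro x hx
    rcases eq_or_ne x a with rfl | hxa
    · exact haI
    · exact hiter.mp hjneg x (by rw [hco x hxa]; exact hx)
  · intro hI
    have haI : P.reflectionPerm a a ∈ R := hI a hca.ne'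
    have hjneg : P.reflectionPerm j j ∈ R := hiter.mpr fun x hx => by
      rcases eq_or_ne x a with rfl | hxa
      · exact haI
      · exact hI x (by rw [← hco x hxa]; exact hx)
    rw [← hnegj]
    exact h.stab a (hR a (hΔ.subset_posOf ha)) haI _ hjneg

/-- Such a set is closed. -/
theorem Par.closed (h : Par P R f) {a b c : idx} (ha : a ∈ R) (hb : b ∈ R)
    (hc : P.root a + P.root b = P.root c) : c ∈ R := by
  classical
  obtain ⟨Δ, _, hΔ, hpos, hiff⟩ := h.exists_simple
  by_cases hcp : c ∈ posOf P Δ
  · exact h.pos c ((hpos c).mp hcp)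
  have hnc := hΔ.neg_mem_posOf_iff.mpr hcp
  have e := hΔ.co_add hc.symm
  have hout : ∀ r ∈ R, ∀ x, P.reflectionPerm x x ∉ R → 0 ≤ hΔ.co r x := by
    intro r hr x hx
    by_cases hrp : r ∈ posOf P Δ
    · exact hΔ.mem_posOf_iff.mp hrp x
    by_contra hlt
    have hn := hΔ.neg_mem_posOf_iff.mpr hrp
    have h2 : P.reflectionPerm (P.reflectionPerm r r) (P.reflectionPerm r r) = r :=
      P.root.injective (by rw [root_neg, root_neg, neg_neg])
    refine hx ((hiff _ hn).mp (by rw [h2]; exact hr) x ?_)
    rw [hΔ.co_neg, Pi.neg_apply]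
    omega
  have h2 : P.reflectionPerm (P.reflectionPerm c c) (P.reflectionPerm c c) = c :=
    P.root.injective (by rw [root_neg, root_neg, neg_neg])
  rw [← h2]
  refine (hiff _ hnc).mpr fun x hx => ?_
  by_contra hxR
  refine hx ?_
  have h3 := hΔ.notMem_posOf_iff.mp hcp x
  have h4 : hΔ.co c x = hΔ.co a x + hΔ.co b x := by rw [e, Pi.add_apply]
  have h5 := hout a ha x hxR
  have h6 := hout b hb x hxR
  rw [hΔ.co_neg, Pi.neg_apply]
  omega

/-- Each root of such a set is positive for a regular form all of whose positive roots are in the set. -/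
theorem Par.exists_form (h : Par P R f) {r : idx} (hr : r ∈ R) :
    ∃ f' : M →+ ℤ, Par P R f' ∧ 0 < f' (P.root r) := by
  classical
  obtain ⟨Δ, _, hΔ, hpos, hiff⟩ := h.exists_simple
  by_cases hrp : r ∈ posOf P Δ
  · exact ⟨f, h, (hpos r).mp hrp⟩
  have hflip : ∀ {a : idx}, a ∈ Δ → P.reflectionPerm a a ∈ R → ∀ {f' : M →+ ℤ}, Par P R f' →
      Par P R (f'.comp (P.reflection a).toLinearMap.toAddMonoidHom) := by
    intro a ha haR f' hf'
    refine ⟨fun c => ?_, fun c hc => ?_, h.stab⟩
    · show f' (P.reflection a (P.root c)) ≠ 0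
      rw [← RootPairing.root_reflectionPerm]
      exact hf'.reg _
    · change 0 < f' (P.reflection a (P.root c)) at hc
      rw [← RootPairing.root_reflectionPerm] at hc
      have h1 := h.stab a (h.pos a ((hpos a).mp (hΔ.subset_posOf ha))) haR _ (hf'.pos _ hc)
      rwa [P.reflectionPerm_self] at h1
  suffices key : ∀ (n : ℕ) (q : idx), q ∈ posOf P Δ → (hΔ.ht q).toNat = n →
      (∀ x, hΔ.co q x ≠ 0 → P.reflectionPerm x x ∈ R) →
      ∃ f' : M →+ ℤ, Par P R f' ∧ f' (P.root q) < 0 by
    have h2 : P.reflectionPerm (P.reflectionPerm r r) (P.reflectionPerm r r) = r :=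
      P.root.injective (by rw [root_neg, root_neg, neg_neg])
    have hn := hΔ.neg_mem_posOf_iff.mpr hrp
    obtain ⟨f', hf', hlt⟩ := key _ _ hn rfl ((hiff _ hn).mp (by rw [h2]; exact hr))
    rw [root_neg, map_neg] at hlt
    exact ⟨f', hf', by omega⟩
  intro n
  induction n using Nat.strong_induction_on with
  | _ n ih =>
  intro q hq hn hI
  by_cases hsimple : ∀ a ∈ Δ, ∃ b, b ≠ a ∧ hΔ.co q b ≠ 0
  swap
  · push Not at hsimple
    obtain ⟨a, ha, hqa⟩ := hsimple
    obtain rfl := hΔ.eq_of_pos_multiple ha hq (isIndiv_of_reduced q) hqa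
    refine ⟨_, hflip ha (hI q (by rw [hΔ.co_simple ha]; simp)) h, ?_⟩
    show f (P.reflection q (P.root q)) < 0
    rw [RootPairing.reflection_apply_self, map_neg]
    have := (hpos q).mp hq
    omega
  obtain ⟨a, ha, hca, hjpos, hlt⟩ := hΔ.descend hq hsimple
  have haI := hI a hca.ne'
  have hpos' := hΔ.ht_pos hjpos
  obtain ⟨f', hf', hlt'⟩ := ih (hΔ.ht (P.reflectionPerm a q)).toNat (by omega) _ hjpos rfl fun x hx => by
    rcases eq_or_ne x a with rfl | hxa
    · exact haI
    · refine hI x ?_
      rw [hΔ.co_refl ha, Pi.sub_apply, Pi.single_eq_of_ne hxa, sub_zero] at hx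
      exact hx
  refine ⟨_, hflip ha haI hf', ?_⟩
  show f' (P.reflection a (P.root q)) < 0
  rwa [← RootPairing.root_reflectionPerm]

end Groth.Agent.DynX.ParRoots
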