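import Groth.Agent.DynX.ParRoots.Comb
import Groth.Agent.Reduced22.Main
import Groth.Agent.RedCell22.RankOneField
import Groth.Prelude.Def_Red2

/-!
# The roots of a parabolic subgroup at a geometric point

A parabolic subgroup containing the split torus contains a Borel subgroup containing it, hence the root groups
positive for a regular form, and the representatives of the reflections in the symmetric part of its set of roots.
-/

set_option autoImplicit false
set_option linter.style.haveILetI false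
set_option linter.unusedSectionVars false

universe u

open CategoryTheory CategoryTheory.Limits AlgebraicGeometry MonoidalCategory CartesianMonoidalCategory MonObj GrpObj
open WithConv
open Groth.Agent.GrpSchLib.Kunneth
open scoped Groth.Agent.AGF27

noncomputable section

namespace Groth.Agent.DynX.ParRoots

open AGFHopf RedCell22 Reduced22 DSPtsLib
open Groth.Agent.AGF27 (ptConv)

variable {S : Scheme.{u}} {G P : Over S} [GrpObj G] [GrpObj P] (D : Red.SplitRed G) (p : P ⟶ G) [IsMonHom p]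

/-- The points of a subgroup over a test object. -/
def inP (X : Over S) : Subgroup (X ⟶ G) :=
  (MonoidHom.mk' (fun q : X ⟶ P => q ≫ p) fun _ _ => MonObj.mul_comp _ _ _).range

theorem mem_inP {X : Over S} {g : X ⟶ G} : g ∈ inP p X ↔ ∃ q : X ⟶ P, q ≫ p = g := Iff.rfl

theorem inP_comp {X Y : Over S} (y : Y ⟶ X) {g : X ⟶ G} (hg : g ∈ inP p X) : y ≫ g ∈ inP p Y := by
  obtain ⟨q, rfl⟩ := (mem_inP p).mp hg
  exact (mem_inP p).mpr ⟨y ≫ q, Category.assoc _ _ _⟩

/-- The roots whose root group lies in the subgroup at a point. -/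
def rootsIn {A : Type u} [CommRing A] (b : Spec (CommRingCat.of A) ⟶ S) (B : Type u) [CommRing B] [Algebra A B] :
    Set D.idx :=
  {r | ∀ x : B, ua D r x ∈ inP p (tb b B)}

theorem exists_par {s : S} [D.P.IsReduced] (tP : D.T ⟶ P) (htP : tP ≫ p = D.i)
    (hpar : Red.IsParabolicOver (AlgebraicClosure (S.residueField s)) ((Over.pullback (Red.geomPt s)).map p)) :
    ∃ f : D.M →+ ℤ, Par D.P (rootsIn D p (Red.geomPt s) (AlgebraicClosure (S.residueField s))) f := by
  let K := AlgebraicClosure (S.residueField s)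
  let β : Spec (CommRingCat.of K) ⟶ S := Red.geomPt s
  haveI : IsAffineHom G.hom := D.reductive.1
  haveI : Smooth G.hom := D.reductive.2.1
  haveI : Smooth (GK β G).hom := inferInstanceAs (Smooth (pullback.snd G.hom β))
  have hred : Red.IsReductiveOver K (GK β G) := D.reductive.2.2 s
  haveI : ConnectedSpace (GK β G).left := hred.2.2.1
  haveI := D.maximalTorus.1
  haveI := D.maximalTorus.2.1
  let iT : GK β D.T ⟶ GK β G := (Over.pullback β).map D.i
  haveI : IsMonHom iT := inferInstanceAs (IsMonHom ((Over.pullback β).map D.i))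
  haveI : Mono iT := inferInstanceAs (Mono ((Over.pullback β).map D.i))
  have hT : Red.IsTorus (GK β D.T) := Groth.Agent.AbSchH3.TorusAV.isTorus_bc β D.maximalTorus.2.2.1
  have hMT : AGF.IsMaxTorus iT := ⟨inferInstance, inferInstance, hT, fun T' _ j _ _ f hT' hf =>
    D.maximalTorus.2.2.2 s T' j f hT' hf⟩
  have hl : ∀ {H : Over S} (i : H ⟶ G) (t : tb β K ⟶ H),
      liftPt (t ≫ i) = liftPt t ≫ (Over.pullback β).map i := fun i t =>
    (DSPtsLib.theta_bijective β).1 (by rw [theta_liftPt, theta_map, theta_liftPt])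
  have hpts : pts iT = (tauK (β := β) D).range := by
    ext x
    constructor
    · rintro ⟨q, rfl⟩
      obtain ⟨t, rfl⟩ := liftPt_bijective.2 q
      obtain ⟨χ, rfl⟩ := tpt_surjective D t
      refine ⟨χ, ?_⟩
      show toConv (pullFn (liftPt (tpt D χ ≫ D.i))) = _
      rw [hl]
      rfl
    · rintro ⟨χ, rfl⟩
      refine ⟨liftPt (tpt D χ), ?_⟩
      show toConv (pullFn (liftPt (tpt D χ) ≫ iT)) = toConv (pullFn (liftPt (tpt D χ ≫ D.i)))
      rw [hl]
  have hmax : IsMaxTor (tauK (β := β) D).range := hpts ▸ isMaxTor_pts hMT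
  let iP : GK β P ⟶ GK β G := (Over.pullback β).map p
  obtain ⟨hiPm, hiPc, -, B, iB, bB, hB⟩ := hpar
  haveI : IsMonHom iP := hiPm
  haveI : IsClosedImmersion iP.left := hiPc
  haveI : IsMonHom (bB ≫ iP) := hB.1
  have hEP : ∀ g : tb β K ⟶ G, E g ∈ pts iP ↔ g ∈ inP p (tb β K) := by
    intro g
    constructor
    · rintro ⟨q, hq⟩
      obtain ⟨q', rfl⟩ := liftPt_bijective.2 q
      refine (mem_inP p).mpr ⟨q', E_bijective.1 ?_⟩
      refine Eq.trans ?_ hq
      show toConv (pullFn (liftPt (q' ≫ p))) = toConv (pullFn (liftPt q' ≫ iP))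
      rw [hl]
    · intro hg
      obtain ⟨q', rfl⟩ := (mem_inP p).mp hg
      refine ⟨liftPt q', ?_⟩
      show toConv (pullFn (liftPt q' ≫ iP)) = toConv (pullFn (liftPt (q' ≫ p)))
      rw [hl]
  let X := fibreChart (β := β) (D := D) hmax
  have hBor : IsBor ⊤ (pts (bB ≫ iP)) := isBor_pts hB
  have hBP : pts (bB ≫ iP) ≤ pts iP := by
    rintro x ⟨q, rfl⟩
    refine ⟨q ≫ bB, congrArg (ptConv (GK β G)) ?_⟩
    show (q ≫ bB) ≫ iP = q ≫ bB ≫ iP
    exact Category.assoc _ _ _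
  obtain ⟨Pc, hPc, hPcc, hbig⟩ := exists_component (pts iP) (isCl_pts iP)
  have hSP : X.S ≤ Pc := fun x hx => hbig _ X.maxTor.1.1.2 (fun y hy => by
    obtain ⟨χ, rfl⟩ := hy
    refine (hEP (tG D (tpt D χ))).mpr ((mem_inP p).mpr ⟨tpt D χ ≫ tP, ?_⟩)
    rw [Category.assoc, htP]
    rfl) X.S.one_mem hx
  have hBPc : pts (bB ≫ iP) ≤ Pc := fun x hx => hbig _ hBor.2.1.2 hBP (one_mem _) hx
  have hBor' : IsBor Pc (pts (bB ≫ iP)) :=
    ⟨hBPc, hBor.2.1, hBor.2.2.1, fun B' h1 h2 h3 h4 => hBor.2.2.2 B' le_top h2 h3 h4⟩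
  obtain ⟨B₂, hB₂, hSB₂⟩ := exists_bor_in hSP X.maxTor.1.1 X.maxTor.1.isSolvable
  obtain ⟨c, -, hc⟩ := exists_cjSub_eq hPcc hBor' hB₂
  have hB₂top : IsBor ⊤ B₂ := by
    have := hBor.cj (g := c)
    rwa [cjSub_eq_of_mem (S := (⊤ : Subgroup _)) trivial, hc] at this
  obtain ⟨f₀, hf₀⟩ := exists_regular D
  have hgood := good_of_regular hmax f₀ hf₀
  obtain ⟨B₀, hB₀, hSB₀, hUB₀⟩ := hgood.borel
  obtain ⟨g, -, hgB, hgS⟩ := exists_normalizer_conj isCC_top hB₀ hB₂top hSB₀ hSB₂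
  obtain ⟨f', hf'⟩ := X.exists_conj_lamb hgS f₀
  have hgood' : Good X f' := hgood.map hgS hf'
  have hreg : ∀ r, f' (D.P.root r) ≠ 0 := by
    intro r h0
    obtain ⟨χ, hχ⟩ := hgood'.cent (E (ua D r (1 : K) : tb β K ⟶ G)) fun z => by
      rw [commute_iff_conj hmax, conj_lam_ua, h0, zpow_zero, Units.val_one, _root_.one_mul]
    have e : (ua D r (1 : K) : tb β K ⟶ G) = tG D (tpt D χ) := E_bijective.1 hχ.symm
    obtain ⟨f₁, hf₁⟩ := exists_regular D
    obtain ⟨f₂, hf₂⟩ : ∃ f₂ : D.M →+ ℤ, 0 < f₂ (D.P.root r) := by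
      rcases lt_or_gt_of_ne (hf₁ r) with h | h
      · exact ⟨-f₁, by rw [AddMonoidHom.neg_apply]; omega⟩
      · exact ⟨f₁, h⟩
    have h1 : (ua D r (1 : K) : tb β K ⟶ G) = 1 :=
      Cochar.eq_one_of_fixed_of_limOne (lam D f₂) (e ▸ fixed_tG D f₂ _) (hasLimOne_ua D hf₂ 1)
    rw [← ua_zero D r] at h1
    exact one_ne_zero (ua_injective D r h1)
  refine ⟨f', hreg, fun r hr x => (hEP _).mp (hPc (hB₂.1 ?_)), ?_⟩
  · rw [← hgB, mem_cjSub]
    refine hUB₀ ?_
    have := X.Uf_map (n := g⁻¹) (f := f') (f' := f₀) (fun z => by rw [← hf']; group)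
      (ua_mem_Uf hmax hr x)
    simpa using this
  · intro r hr hrn c hc x
    obtain ⟨b₀⟩ := Reduced22.nonempty_base D.P
    obtain ⟨n, hn⟩ := D.refl r
    obtain ⟨R, hp, hm, hT', hN⟩ := exists_rank1 (b := β) (K := K) b₀ r (hn : IsReflPt D r n)
    obtain ⟨y₁, x₁, t, y₂, ht, -, -, hdec⟩ := R.decomp
    have hTmem : t ∈ inP p (tb β K) := by
      rw [hT'] at ht
      obtain ⟨t', rfl⟩ := ht
      exact (mem_inP p).mpr ⟨t' ≫ tP, by rw [Category.assoc, htP]; rfl⟩
    have hNmem : (toUnit _ ≫ n : tb β K ⟶ G) ∈ inP p (tb β K) := by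
      rw [← hN, hdec, hp, hm]
      exact mul_mem (mul_mem (mul_mem (hrn y₁) (hr x₁)) hTmem) (hrn y₂)
    obtain ⟨e, he⟩ := exists_conj_refl (A := K) (b := β) b₀ (hn : IsReflPt D r n) c
    have hcx := he K (((e⁻¹ : Kˣ) : K) * x)
    rw [Algebra.algebraMap_self_apply, ← _root_.mul_assoc, Units.mul_inv, _root_.one_mul] at hcx
    rw [← hcx]
    exact mul_mem (mul_mem hNmem (hc _)) (inv_mem hNmem)

end Groth.Agent.DynX.ParRoots
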