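import Groth.Agent.RedCell22.Limits
import Mathlib.RingTheory.Smooth.Basic
import Mathlib.RingTheory.Nilpotent.Basic

/-!
# Lifting points with limit one along square-zero extensions

For an affine group with formally smooth functions, a point with limit one modulo a square-zero ideal lifts to a point
with limit one: homogenise a lift of the polynomial witness.
-/

set_option autoImplicit false
set_option linter.style.haveILetI false
set_option linter.unusedSectionVars false

universe u

open CategoryTheory CategoryTheory.Limits AlgebraicGeometry MonoidalCategory CartesianMonoidalCategory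
open MonObj GrpObj
open scoped LaurentPolynomial

noncomputable section

namespace Groth.Agent.DynX.ParRoots

open RedCell22

variable {S : Scheme.{u}} {A : Type u} [CommRing A] {b : Spec (CommRingCat.of A) ⟶ S} {G : Over S} [GrpObj G]
  [IsAffineHom G.hom] {B : Type u} [CommRing B] [Algebra A B]

/-- The coefficient of degree `n`, zero in negative degrees. -/
def cfL (B : Type u) [CommRing B] (A : Type u) [CommRing A] [Algebra A B] (n : ℤ) : Polynomial B →ₗ[A] B :=
  if n < 0 then 0 else (Polynomial.lcoeff B n.toNat).restrictScalars A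

theorem cfL_apply (n : ℤ) (p : Polynomial B) : cfL B A n p = if n < 0 then 0 else p.coeff n.toNat := by
  unfold cfL
  split <;> rfl

theorem co_proj_mul (c : Cochar b G) {m n : ℤ} {x y : FunRing b G}
    (hx : c.co x = LaurentPolynomial.C x * LaurentPolynomial.T m)
    (hy : c.co y = LaurentPolynomial.C y * LaurentPolynomial.T n) :
    c.co (x * y) = LaurentPolynomial.C (x * y) * LaurentPolynomial.T (m + n) := by
  rw [map_mul c.co, hx, hy, map_mul, LaurentPolynomial.T_add]
  ring

/-- Points with a limit lift along square-zero extensions. -/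
theorem exists_hasLim_lift (c : Cochar b G) [Algebra.FormallySmooth A (FunRing b G)] (I : Ideal B) (hI : I ^ 2 = ⊥)
    {g₀ : tb b (B ⧸ I) ⟶ G} (hg₀ : c.HasLim g₀) :
    ∃ g : tb b B ⟶ G, c.HasLim g ∧ tm b (Ideal.Quotient.mkₐ A I) ≫ g = g₀ := by
  classical
  obtain ⟨h₀', hh₀⟩ := hg₀
  let h₀ : FunRing b G →ₐ[A] Polynomial (B ⧸ I) := ev b h₀'
  let π : Polynomial B →ₐ[A] Polynomial (B ⧸ I) := Polynomial.mapAlgHom (Ideal.Quotient.mkₐ A I)
  have hπ : Function.Surjective π := Polynomial.map_surjective _ Ideal.Quotient.mk_surjective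
  have hmul : ∀ x ∈ I, ∀ y ∈ I, x * y = 0 := fun x hx y hy => by
    have := Ideal.mul_mem_mul hx hy
    rw [← sq, hI] at this
    exact this
  have hker : ∀ p : Polynomial B, π p = 0 → ∀ q, p.coeff q ∈ I := fun p hp q => by
    have := congrArg (fun f => f.coeff q) hp
    simp only [π, Polynomial.coe_mapAlgHom, Polynomial.coeff_map, Polynomial.coeff_zero] at this
    exact Ideal.Quotient.eq_zero_iff_mem.1 this
  have hnil : IsNilpotent (RingHom.ker (π : Polynomial B →+* Polynomial (B ⧸ I))) := by
    refine ⟨2, ?_⟩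
    rw [Ideal.zero_eq_bot, eq_bot_iff, sq, Ideal.mul_le]
    intro p hp q hq
    rw [Ideal.mem_bot]
    ext m
    rw [Polynomial.coeff_mul, Polynomial.coeff_zero]
    exact Finset.sum_eq_zero fun x _ => hmul _ (hker p hp _) _ (hker q hq _)
  let h : FunRing b G →ₐ[A] Polynomial B := Algebra.FormallySmooth.liftOfSurjective h₀ π hπ hnil
  have hh : π.comp h = h₀ := Algebra.FormallySmooth.comp_liftOfSurjective h₀ π hπ hnil
  let Deg : ℤ → FunRing b G → Prop := fun n x => c.co x = LaurentPolynomial.C x * LaurentPolynomial.T n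
  have hprojdeg : ∀ n x, Deg n (c.proj n x) := fun n x => c.co_proj n x
  have hprojeq : ∀ {n : ℤ} {x : FunRing b G}, Deg n x → ∀ m, c.proj m x = if n = m then x else 0 := by
    intro n x hx m
    rw [Cochar.proj_apply, hx, ← LaurentPolynomial.single_eq_C_mul_T, AddMonoidAlgebra.coeff_single,
      Finsupp.single_apply]
  have hdeg : ∀ {n : ℤ} {x : FunRing b G}, Deg n x → ∀ q : ℕ,
      (h₀ x).coeff q = if (q : ℤ) = n then ev b g₀ x else 0 := by
    intro n x hx q
    have e : (Polynomial.toLaurent (h₀ x)).coeff (q : ℤ) = ev b g₀ (c.proj q x) := by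
      rw [← Cochar.coeff_ev_orb, ← hh₀, ev_comp]
      rfl
    rw [toLaurent_coeff_nat, hprojeq hx] at e
    rw [e]
    simp only [eq_comm (a := n)]
    split <;> simp
  have hoff : ∀ {n : ℤ} {x : FunRing b G}, Deg n x → ∀ q : ℕ, (q : ℤ) ≠ n → (h x).coeff q ∈ I := by
    intro n x hx q hq
    have e := congrArg (fun f => f.coeff q) (AlgHom.congr_fun hh x)
    simp only [π, AlgHom.comp_apply, Polynomial.coe_mapAlgHom, Polynomial.coeff_map, hdeg hx, if_neg hq] at e
    exact Ideal.Quotient.eq_zero_iff_mem.1 e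
  let L : FunRing b G →ₗ[A] B :=
    { toFun := fun x => (c.co x).coeff.sum fun n y => cfL B A n (h y)
      map_add' := fun x y => by
        rw [map_add, AddMonoidAlgebra.coeff_add]
        exact Finsupp.sum_add_index' (fun n => by simp) fun n x y => by rw [map_add, map_add]
      map_smul' := fun a x => by
        rw [map_smul, AddMonoidAlgebra.coeff_smul, Finsupp.sum_smul_index' (h := fun n y => cfL B A n (h y)) fun n => by simp]
        simp only [Finsupp.smul_sum, map_smul, RingHom.id_apply] }
  have hLdeg : ∀ {n : ℤ} {x : FunRing b G}, Deg n x → L x = cfL B A n (h x) := by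
    intro n x hx
    show (c.co x).coeff.sum (fun n y => cfL B A n (h y)) = _
    rw [hx, ← LaurentPolynomial.single_eq_C_mul_T, AddMonoidAlgebra.coeff_single,
      Finsupp.sum_single_index (by simp)]
  have hone : Deg 0 (1 : FunRing b G) := by simp [Deg]
  have hmain : ∀ {i : ℤ} {x : FunRing b G}, Deg i x → ∀ {j : ℤ} {y : FunRing b G}, Deg j y →
      L (x * y) = L x * L y := by
    intro i x hx j y hy
    rw [hLdeg (co_proj_mul c hx hy), hLdeg hx, hLdeg hy, map_mul, cfL_apply, cfL_apply, cfL_apply]
    by_cases hn : i + j < 0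
    · rw [if_pos hn]
      rcases lt_or_ge i 0 with hi | hi
      · rw [if_pos hi, zero_mul]
      · rw [if_pos (by omega : j < 0), mul_zero]
    rw [if_neg hn, Polynomial.coeff_mul]
    by_cases hij : 0 ≤ i ∧ 0 ≤ j
    · rw [if_neg (by omega), if_neg (by omega)]
      refine Finset.sum_eq_single (i.toNat, j.toNat) ?_ ?_
      · rintro ⟨p, q⟩ hpq hne
        rw [Finset.HasAntidiagonal.mem_antidiagonal] at hpq
        have hp : (p : ℤ) ≠ i := fun e => hne (Prod.ext (by dsimp only; omega) (by dsimp only at *; omega))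
        exact hmul _ (hoff hx p hp) _ (hoff hy q (by dsimp only at hpq; omega))
      · intro hnot
        rw [Finset.HasAntidiagonal.mem_antidiagonal] at hnot
        omega
    · rw [show (if i < 0 then 0 else (h x).coeff i.toNat) * (if j < 0 then 0 else (h y).coeff j.toNat) = 0 by
        rcases not_and_or.1 hij with h' | h'
        · rw [if_pos (by omega : i < 0), zero_mul]
        · rw [if_pos (by omega : j < 0), mul_zero]]
      refine Finset.sum_eq_zero fun z hz => ?_
      rw [Finset.HasAntidiagonal.mem_antidiagonal] at hz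
      exact hmul _ (hoff hx _ (by omega)) _ (hoff hy _ (by omega))
  have hsum : ∀ x : FunRing b G, x = ∑ n ∈ (c.co x).coeff.support, c.proj n x := fun x => by
    conv_lhs => rw [← c.sum_proj x]
    rfl
  let gA : FunRing b G →ₐ[A] B := AlgHom.ofLinearMap L
    (by rw [hLdeg hone, map_one, cfL_apply]; simp)
    (fun x y => by
      rw [hsum x, hsum y, Finset.sum_mul_sum, map_sum, map_sum, map_sum, Finset.sum_mul_sum]
      refine Finset.sum_congr rfl fun i _ => ?_
      rw [map_sum]
      exact Finset.sum_congr rfl fun j _ => hmain (hprojdeg i x) (hprojdeg j y))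
  let g : tb b B ⟶ G := pt b gA
  have hlim : c.HasLim g := (Cochar.hasLim_iff c g).2 fun n hn x => by
    rw [ev_pt]
    show L _ = 0
    rw [hLdeg (hprojdeg n x), cfL_apply, if_pos hn]
  refine ⟨g, hlim, ev_injective b (AlgHom.ext fun x => ?_)⟩
  rw [ev_comp, ev_pt, AlgHom.comp_apply]
  show Ideal.Quotient.mk I (L x) = ev b g₀ x
  rw [hsum x, map_sum, map_sum, map_sum]
  refine Finset.sum_congr rfl fun n _ => ?_
  rw [hLdeg (hprojdeg n x), cfL_apply]
  split_ifs with hn
  · rw [map_zero]
    exact ((Cochar.hasLim_iff c g₀).1 ⟨h₀', hh₀⟩ n hn x).symm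
  · have e := congrArg (fun f => f.coeff n.toNat) (AlgHom.congr_fun hh (c.proj n x))
    simp only [π, AlgHom.comp_apply, Polynomial.coe_mapAlgHom, Polynomial.coeff_map, hdeg (hprojdeg n x),
      if_pos (Int.toNat_of_nonneg (not_lt.1 hn))] at e
    exact e

/-- Points with limit one lift along square-zero extensions to points with limit one. -/
theorem exists_hasLimOne_lift (c : Cochar b G) [Algebra.FormallySmooth A (FunRing b G)] (I : Ideal B) (hI : I ^ 2 = ⊥)
    {g₀ : tb b (B ⧸ I) ⟶ G} (hg₀ : c.HasLimOne g₀) :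
    ∃ g : tb b B ⟶ G, c.HasLimOne g ∧ tm b (Ideal.Quotient.mkₐ A I) ≫ g = g₀ := by
  obtain ⟨g, hg, hgg⟩ := exists_hasLim_lift c I hI hg₀.hasLim
  obtain ⟨z, v, hz, hv, rfl⟩ := Cochar.exists_fixed_mul_limOne c hg
  refine ⟨v, hv, ?_⟩
  let q := Ideal.Quotient.mkₐ A I
  have h1 : c.IsFixed (tm b q ≫ z) := (Cochar.isFixed_iff c _).2 fun n hn f => by
    rw [ev_comp, AlgHom.comp_apply, (Cochar.isFixed_iff c z).1 hz n hn f, map_zero]
  have h2 : c.HasLimOne (tm b q ≫ z) := by
    have e : tm b q ≫ z = g₀ * (tm b q ≫ v)⁻¹ := by rw [← hgg, tm_mul, mul_inv_cancel_right]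
    rw [e]
    exact Cochar.HasLimOne.mul c hg₀ (Cochar.HasLimOne.inv c (Cochar.HasLimOne.map c hv q))
  rw [← hgg, tm_mul, Cochar.eq_one_of_fixed_of_limOne c h1 h2, _root_.one_mul]

end Groth.Agent.DynX.ParRoots
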