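import Groth.Agent.DynX.ParRoots.Lift
import Groth.Agent.RedCell22.Unip
import Mathlib.AlgebraicGeometry.Morphisms.Smooth
import Mathlib.RingTheory.Nakayama
import Mathlib.Algebra.MvPolynomial.Funext

/-!
# The places where a product of root groups lies in a smooth subgroup

For a smooth closed subgroup `P` containing the torus and an ordered list of root groups, the pull-back of the ideal of
`P` to the coordinates cuts out, over the base, the closed set of places where the whole product lies in `P`.  When
the list is that of the roots positive for a form this set is open, and if it is everything the product lies in `P`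
identically.
-/

set_option autoImplicit false
set_option linter.style.haveILetI false
set_option linter.unusedSectionVars false
set_option maxHeartbeats 400000

universe u

open CategoryTheory CategoryTheory.Limits AlgebraicGeometry MonoidalCategory CartesianMonoidalCategory
open MonObj GrpObj

noncomputable section

namespace Groth.Agent.DynX.ParRoots

open RedCell22

variable {S : Scheme.{u}} {A : Type u} [CommRing A] {b : Spec (CommRingCat.of A) ⟶ S} {G P : Over S} [GrpObj G]
  [GrpObj P] [IsAffineHom G.hom] [IsAffineHom P.hom]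

section Smooth

theorem smooth_funRing [Smooth P.hom] : Algebra.Smooth A (FunRing b P) := by
  haveI : Smooth (pullback.snd P.hom b) := inferInstance
  refine RingHom.smooth_algebraMap.mp ?_
  have h : RingHom.Smooth (pullback.snd P.hom b).appTop.hom :=
    (HasRingHomProperty.iff_of_isAffine (P := @Smooth)).mp ‹Smooth (pullback.snd P.hom b)›
  exact RingHom.Smooth.respectsIso.2 _ (Scheme.ΓSpecIso (CommRingCat.of A)).symm.commRingCatIsoToRingEquiv h

end Smooth

variable (p : P ⟶ G) [IsMonHom p] [IsClosedImmersion p.left]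

/-- The restriction of functions to the subgroup. -/
def res : FunRing b G →ₐ[A] FunRing b P := ev b ((univ b : tb b (FunRing b P) ⟶ P) ≫ p)

variable {B : Type u} [CommRing B] [Algebra A B]

theorem ev_comp_sub (q : tb b B ⟶ P) : ev b (q ≫ p) = (ev b q).comp (res p) := by
  conv_lhs => rw [eq_tm_univ b q, Category.assoc, ev_comp]
  rfl

theorem res_surjective : Function.Surjective (res (b := b) p) := by
  let qm : pullback P.hom b ⟶ pullback G.hom b :=
    pullback.map P.hom b G.hom b p.left (𝟙 _) (𝟙 _) (by rw [Category.comp_id, Over.w p]) (by simp)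
  have hsq : IsPullback qm (pullback.fst P.hom b) (pullback.fst G.hom b) p.left := by
    refine IsPullback.of_right (h₁₂ := pullback.snd G.hom b) (v₁₃ := b) (h₂₂ := G.hom) ?_ ?_
      (IsPullback.of_hasPullback G.hom b).flip
    · rw [show qm ≫ pullback.snd G.hom b = pullback.snd P.hom b from (pullback.lift_snd _ _ _).trans
        (Category.comp_id _), Over.w p]
      exact (IsPullback.of_hasPullback P.hom b).flip
    · exact pullback.lift_fst _ _ _
  haveI : IsClosedImmersion qm := MorphismProperty.of_isPullback (P := @IsClosedImmersion) hsq.flip inferInstance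
  have hq : toBC b ((univ b : tb b (FunRing b P) ⟶ P) ≫ p) = toBC b (univ b : tb b (FunRing b P) ⟶ P) ≫ qm := by
    apply pullback.hom_ext
    · rw [toBC_fst, Category.assoc, pullback.lift_fst, ← Category.assoc, toBC_fst]
      rfl
    · rw [toBC_snd, Category.assoc, pullback.lift_snd, Category.comp_id, toBC_snd]
  have hev : ∀ f, res (b := b) p f = qm.appTop f := fun f => by
    have e := AlgHom.congr_fun (ev_univ (b := b) (G := P)) (qm.appTop f)
    rw [ev_apply, AlgHom.id_apply] at e
    rw [res, ev_apply, hq, Scheme.Hom.comp_appTop, CommRingCat.comp_apply]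
    exact e
  intro y
  obtain ⟨f, hf⟩ := (IsClosedImmersion.isAffine_surjective_of_isAffine qm).2 y
  exact ⟨f, (hev f).trans hf⟩

theorem mem_iff_ker (g : tb b B ⟶ G) :
    (∃ q : tb b B ⟶ P, q ≫ p = g) ↔ ∀ f ∈ RingHom.ker (res (b := b) p), ev b g f = 0 := by
  constructor
  · rintro ⟨q, rfl⟩ f hf
    rw [ev_comp_sub, AlgHom.comp_apply, show res p f = 0 from hf, map_zero]
  · intro h
    refine ⟨pt b (AlgHom.liftOfSurjective (res p) (res_surjective p) (ev b g) h), ev_injective b ?_⟩
    rw [ev_comp_sub, ev_pt]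
    exact AlgHom.liftOfSurjective_comp _ _ _ _

variable {cP : Cochar b P} {cG : Cochar b G}
  (hc : ∀ (B : Type u) [CommRing B] [Algebra A B] (z : Bˣ), cP.val B z ≫ p = cG.val B z)
include hc

theorem orb_comp (q : tb b B ⟶ P) : cP.orb q ≫ p = cG.orb (q ≫ p) := by
  simp only [Cochar.orb, Cochar.conj, MonObj.mul_comp, GrpObj.inv_comp, hc, Category.assoc]

theorem ev_proj_res (q : tb b B ⟶ P) (n : ℤ) (f : FunRing b G) :
    ev b q (cP.proj n (res p f)) = ev b (q ≫ p) (cG.proj n f) := by
  rw [← Cochar.coeff_ev_orb, ← Cochar.coeff_ev_orb, ← orb_comp p hc, ev_comp_sub]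
  rfl

/-- A point of the subgroup has limit one exactly when it has limit one in the group. -/
theorem hasLimOne_comp_iff (q : tb b B ⟶ P) : cP.HasLimOne q ↔ cG.HasLimOne (q ≫ p) := by
  rw [Cochar.hasLimOne_iff, Cochar.hasLimOne_iff, Cochar.hasLim_iff, Cochar.hasLim_iff]
  have he : ∀ f, eps b G f = eps b P (res p f) := fun f => by
    show ev b (1 : tb b A ⟶ G) f = ev b (1 : tb b A ⟶ P) (res p f)
    rw [← MonObj.one_comp p (M := P), ev_comp_sub]
    rfl
  constructor
  · rintro ⟨h1, h2⟩
    exact ⟨fun n hn f => by rw [← ev_proj_res p hc, h1 n hn],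
      fun f => by rw [← ev_proj_res p hc, h2, he]⟩
  · rintro ⟨h1, h2⟩
    refine ⟨fun n hn y => ?_, fun y => ?_⟩
    · obtain ⟨f, rfl⟩ := res_surjective p y
      rw [ev_proj_res p hc, h1 n hn]
    · obtain ⟨f, rfl⟩ := res_surjective p y
      rw [ev_proj_res p hc, h2, he]

omit hc

variable (D : Red.SplitRed G) {m : ℕ} (l : Fin m → D.idx)

/-- The equations of the places where the product lies in the subgroup. -/
def eqs : Ideal (MvPolynomial (Fin m) A) :=
  (RingHom.ker (res (b := b) p)).map (ev b (uWord D l : tb b (MvPolynomial (Fin m) A) ⟶ G))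

theorem word_mem_iff (x : Fin m → B) :
    (∃ q : tb b B ⟶ P, q ≫ p = word D l x) ↔ ∀ j ∈ eqs (b := b) p D l, MvPolynomial.aeval x j = 0 := by
  rw [mem_iff_ker]
  constructor
  · intro h j hj
    have hle : eqs (b := b) p D l ≤ RingHom.ker (MvPolynomial.aeval (R := A) x) :=
      Ideal.map_le_iff_le_comap.mpr fun f hf => by
        show MvPolynomial.aeval x (polyOf D l f) = 0
        rw [← ev_word]
        exact h f hf
    exact hle hj
  · intro h f hf
    rw [ev_word]
    exact h _ (Ideal.mem_map_of_mem _ hf)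

/-- The places where the whole product lies in the subgroup. -/
def locus : Set (PrimeSpectrum A) := {q | ∀ j ∈ eqs (b := b) p D l, ∀ d, MvPolynomial.coeff d j ∈ q.asIdeal}

theorem isClosed_locus : IsClosed (locus (b := b) p D l) := by
  have e : locus (b := b) p D l =
      PrimeSpectrum.zeroLocus {a | ∃ j ∈ eqs (b := b) p D l, ∃ d, MvPolynomial.coeff d j = a} := by
    ext q
    rw [PrimeSpectrum.mem_zeroLocus]
    exact ⟨fun h a => by rintro ⟨j, hj, d, rfl⟩; exact h j hj d, fun h j hj d => h ⟨j, hj, d, rfl⟩⟩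
  rw [e]
  exact PrimeSpectrum.isClosed_zeroLocus _

/-- A place is in the locus when, over an algebraically closed field, all products lie in the subgroup. -/
theorem mem_locus_iff {K : Type u} [Field K] [IsAlgClosed K] [Algebra A K] (q : PrimeSpectrum A)
    (hq : RingHom.ker (algebraMap A K) = q.asIdeal) :
    q ∈ locus (b := b) p D l ↔ ∀ x : Fin m → K, ∃ r : tb b K ⟶ P, r ≫ p = word D l x := by
  simp only [word_mem_iff]
  constructor
  · intro h x j hj
    rw [MvPolynomial.aeval_def, MvPolynomial.eval₂_eq']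
    refine Finset.sum_eq_zero fun d _ => ?_
    have hd := h j hj d
    rw [← hq, RingHom.mem_ker] at hd
    rw [hd, zero_mul]
  · intro h j hj d
    have e : MvPolynomial.map (algebraMap A K) j = 0 := MvPolynomial.funext fun x => by
      rw [map_zero, MvPolynomial.eval_map]
      exact (MvPolynomial.aeval_def x j).symm.trans (h x j hj)
    rw [← hq, RingHom.mem_ker]
    have := congrArg (MvPolynomial.coeff d) e
    rwa [MvPolynomial.coeff_map, MvPolynomial.coeff_zero] at this

/-- If there are no equations the universal product lies in the subgroup. -/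
theorem exists_of_eqs_eq_bot (h : eqs (b := b) p D l = ⊥) (x : Fin m → B) :
    ∃ q : tb b B ⟶ P, q ≫ p = word D l x :=
  (word_mem_iff p D l x).mpr fun j hj => by
    rw [h, Ideal.mem_bot] at hj
    rw [hj, map_zero]

omit [GrpObj G] [GrpObj P] in
/-- An algebra map killing an ideal which agrees with a surjection modulo that ideal pushes it into the product with
an ideal of constants containing it. -/
theorem le_smul_of_section {R W : Type u} [CommRing R] [Algebra A R] [CommRing W] [Algebra A W] (J : Ideal R)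
    (qA : Ideal A) (hJ : J ≤ qA.map (algebraMap A R)) (π σ : R →ₐ[A] W) (hπ : Function.Surjective π)
    (hker : RingHom.ker π ≤ J ^ 2) (hσ : ∀ j ∈ J, σ j = 0) (hδ : ∀ r, π r - σ r ∈ J.map π) :
    J ≤ qA.map (algebraMap A R) • J := by
  let Q : Ideal R := qA.map (algebraMap A R)
  have hkey : ∀ y ∈ Q, ∀ r : R, ∃ z ∈ Q * J, π (r * y) - σ (r * y) = π z := by
    intro y hy
    induction hy using Submodule.span_induction with
    | mem y hy =>
      obtain ⟨a, ha, rfl⟩ := hy
      intro r
      obtain ⟨w, hw, hwr⟩ := (Ideal.mem_map_iff_of_surjective π hπ).mp (hδ r)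
      refine ⟨algebraMap A R a * w, Ideal.mul_mem_mul (Ideal.mem_map_of_mem _ ha) hw, ?_⟩
      rw [map_mul π, map_mul σ, map_mul π, hwr, π.commutes, σ.commutes]
      ring
    | zero => exact fun r => ⟨0, zero_mem _, by simp⟩
    | add y y' _ _ h h' =>
      intro r
      obtain ⟨z, hz, e⟩ := h r
      obtain ⟨z', hz', e'⟩ := h' r
      exact ⟨z + z', add_mem hz hz', by rw [mul_add, map_add, map_add, map_add, ← e, ← e']; ring⟩
    | smul s y _ h =>
      intro r
      obtain ⟨z, hz, e⟩ := h (r * s)
      exact ⟨z, hz, by rw [smul_eq_mul, ← _root_.mul_assoc]; exact e⟩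
  intro j hj
  obtain ⟨z, hz, e⟩ := hkey j (hJ hj) 1
  rw [_root_.one_mul, hσ j hj, sub_zero] at e
  rw [smul_eq_mul]
  have h1 : j - z ∈ RingHom.ker π := by rw [RingHom.mem_ker, map_sub, e, sub_self]
  have h2 : j - z ∈ J * J := by rw [← sq]; exact hker h1
  have h3 : j - z ∈ qA.map (algebraMap A R) * J := (Ideal.mul_mono_left hJ) h2
  simpa using add_mem h3 hz

variable [Smooth G.hom] [Smooth P.hom] (tP : D.T ⟶ P) [IsMonHom tP] (htP : tP ≫ p = D.i)
  {f : D.M →+ ℤ} (hl : PosList D f l)
include htP hl

/-- The coordinates lift to coordinates of a product lying in the subgroup. -/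
theorem exists_section {W : Type u} [CommRing W] [Algebra A W] (π : MvPolynomial (Fin m) A →ₐ[A] W)
    (hI : ((eqs (b := b) p D l).map π) ^ 2 = ⊥) :
    ∃ σ : MvPolynomial (Fin m) A →ₐ[A] W, (∀ j ∈ eqs (b := b) p D l, σ j = 0) ∧
      ∀ r, π r - σ r ∈ (eqs (b := b) p D l).map π := by
  haveI := smooth_funRing (b := b) (P := P)
  haveI : Algebra.FormallySmooth A (FunRing b P) := Algebra.Smooth.formallySmooth
  let cP : Cochar b P :=
    { val := fun B _ _ => MonoidHom.mk' (fun z => tpt D (coVal D f z) ≫ tP)
        fun z w => by rw [coVal_mul, tpt_mul, MonObj.mul_comp]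
      map := fun {B C} _ _ _ _ φ z => by
        show tm b φ ≫ tpt D _ ≫ tP = tpt D _ ≫ tP
        rw [← Category.assoc, tpt_map]
        congr 2
        refine MonoidHom.ext fun m => ?_
        simp [coVal, zpowersHom_apply] }
  have hc : ∀ (B : Type u) [CommRing B] [Algebra A B] (z : Bˣ), cP.val B z ≫ p = (lam D f).val B z := by
    intro B _ _ z
    show (tpt D (coVal D f z) ≫ tP) ≫ p = tG D (tpt D (coVal D f z))
    rw [Category.assoc, htP]
    rfl
  generalize hIdef : (eqs (b := b) p D l).map π = I at hI ⊢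
  let θ : W →ₐ[A] W ⧸ I := Ideal.Quotient.mkₐ A I
  let x₀ : Fin m → W ⧸ I := fun k => θ (π (MvPolynomial.X k))
  have hx₀ : MvPolynomial.aeval x₀ = θ.comp π := MvPolynomial.algHom_ext fun k => by simp [x₀]
  obtain ⟨q₀, hq₀⟩ := (word_mem_iff (b := b) p D l x₀).mpr fun j hj => by
    rw [hx₀, AlgHom.comp_apply]
    exact Ideal.Quotient.eq_zero_iff_mem.mpr (hIdef ▸ Ideal.mem_map_of_mem _ hj)
  have hlim₀ : cP.HasLimOne q₀ := (hasLimOne_comp_iff p hc q₀).mpr (by
    rw [hq₀]
    exact (hasLimOne_iff_word hl _).mpr ⟨x₀, rfl⟩)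
  obtain ⟨g, hg, hgg⟩ := exists_hasLimOne_lift cP I hI hlim₀
  obtain ⟨x, hx⟩ := exists_word hl ((hasLimOne_comp_iff p hc g).mp hg)
  have hw : (word D l (fun k => θ (x k)) : tb b (W ⧸ I) ⟶ G) = word D l x₀ := by
    refine (word_map D l θ x).symm.trans ?_
    rw [hx, ← hq₀, ← hgg, Category.assoc]
  have hxx : (fun k => θ (x k)) = x₀ := word_injective (b := b) hl hw
  refine ⟨MvPolynomial.aeval x, (word_mem_iff (b := b) p D l x).mp ⟨g, hx.symm⟩, fun r => ?_⟩
  refine Ideal.Quotient.eq.mp ?_
  show θ (π r) = θ (MvPolynomial.aeval x r)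
  calc θ (π r) = MvPolynomial.aeval x₀ r := (AlgHom.congr_fun hx₀ r).symm
    _ = θ (MvPolynomial.aeval x r) := by
      rw [← hxx]
      exact (AlgHom.congr_fun (MvPolynomial.comp_aeval x θ) r).symm

/-- Nakayama's element at a place in the locus of a positive list. -/
theorem exists_annihilator {q : PrimeSpectrum A} (hq : q ∈ locus (b := b) p D l) :
    ∃ e : MvPolynomial (Fin m) A, (∀ d, MvPolynomial.coeff d (e - 1) ∈ q.asIdeal) ∧
      ∀ j ∈ eqs (b := b) p D l, e * j = 0 := by
  haveI := smooth_funRing (b := b) (P := G)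
  haveI := smooth_funRing (b := b) (P := P)
  haveI : Algebra.FinitePresentation A (FunRing b G) := Algebra.Smooth.finitePresentation
  haveI : Algebra.FinitePresentation A (FunRing b P) := Algebra.Smooth.finitePresentation
  have hfg : (eqs (b := b) p D l).FG :=
    (Algebra.FinitePresentation.ker_fG_of_surjective (res (b := b) p) (res_surjective p)).map _
  have hJQ : eqs (b := b) p D l ≤ q.asIdeal.map (algebraMap A (MvPolynomial (Fin m) A)) := fun j hj =>
    MvPolynomial.mem_map_C_iff.mpr fun d => hq j hj d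
  obtain ⟨σ, hσ, hδ⟩ := exists_section p D l tP htP hl (Ideal.Quotient.mkₐ A ((eqs (b := b) p D l) ^ 2))
    ((Ideal.map_pow _ _ _).symm.trans (Ideal.map_quotient_self _))
  obtain ⟨e, he, hann⟩ := Submodule.exists_sub_one_mem_and_smul_eq_zero_of_fg_of_le_smul _ _ hfg
    (le_smul_of_section _ q.asIdeal hJQ _ σ Ideal.Quotient.mk_surjective (le_of_eq Ideal.mk_ker) hσ hδ)
  exact ⟨e, fun d => MvPolynomial.mem_map_C_iff.mp he d, fun j hj => hann j hj⟩

theorem isOpen_locus : IsOpen (locus (b := b) p D l) := by
  refine isOpen_iff_forall_mem_open.mpr fun q hq => ?_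
  obtain ⟨e, he, hann⟩ := exists_annihilator p D l tP htP hl hq
  refine ⟨PrimeSpectrum.basicOpen (MvPolynomial.coeff 0 e), fun q' hq' j hj => ?_,
    PrimeSpectrum.isOpen_basicOpen, ?_⟩
  · let φ : MvPolynomial (Fin m) A →+* MvPolynomial (Fin m) (A ⧸ q'.asIdeal) :=
      MvPolynomial.map (Ideal.Quotient.mk q'.asIdeal)
    have h1 : φ e ≠ 0 := fun h => hq' (Ideal.Quotient.eq_zero_iff_mem.mp (by
      rw [← MvPolynomial.coeff_map, show MvPolynomial.map _ e = 0 from h, MvPolynomial.coeff_zero]))
    have h2 : φ j = 0 := by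
      have : φ e * φ j = 0 := by rw [← map_mul, hann j hj, map_zero]
      exact (mul_eq_zero.mp this).resolve_left h1
    intro d
    refine Ideal.Quotient.eq_zero_iff_mem.mp ?_
    rw [← MvPolynomial.coeff_map, show MvPolynomial.map _ j = 0 from h2, MvPolynomial.coeff_zero]
  · show MvPolynomial.coeff 0 e ∉ q.asIdeal
    intro h
    refine q.isPrime.ne_top ((Ideal.eq_top_iff_one _).mpr ?_)
    have h0 := he 0
    rw [MvPolynomial.coeff_sub] at h0
    simpa using sub_mem h h0

theorem eqs_eq_bot (h : ∀ q : PrimeSpectrum A, q ∈ locus (b := b) p D l) : eqs (b := b) p D l = ⊥ := by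
  let R := MvPolynomial (Fin m) A
  let J : Ideal R := eqs (b := b) p D l
  have htop : J.annihilator = ⊤ := by
    by_contra hne
    obtain ⟨M, hM, hle⟩ := Ideal.exists_le_maximal _ hne
    haveI := hM
    let q : PrimeSpectrum A := ⟨M.comap MvPolynomial.C, Ideal.IsPrime.comap _⟩
    obtain ⟨e, he, hann⟩ := exists_annihilator p D l tP htP hl (h q)
    have h1 : e - 1 ∈ M := (Ideal.map_le_iff_le_comap.mpr le_rfl : q.asIdeal.map MvPolynomial.C ≤ M)
      (MvPolynomial.mem_map_C_iff.mpr he)
    have h2 : e ∈ M := hle (Submodule.mem_annihilator.mpr fun j hj => hann j hj)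
    exact hM.ne_top ((Ideal.eq_top_iff_one _).mpr (by simpa using sub_mem h2 h1))
  exact (eq_bot_iff.mpr fun j hj => by
    have := Submodule.mem_annihilator.mp (htop.ge (Submodule.mem_top (x := (1 : R)))) j hj
    rw [one_smul] at this
    exact this ▸ zero_mem _)

end Groth.Agent.DynX.ParRoots
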