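import Groth.Agent.DynX.ParRoots.Fibre
import Groth.Agent.DynX.ParRoots.Locus

/-!
# The roots of a parabolic subgroup over a connected base

The roots whose root groups lie in a parabolic subgroup containing the torus are the same at every geometric point,
and these root groups lie in the subgroup over the whole base.
-/

set_option autoImplicit false
set_option linter.style.haveILetI false
set_option linter.unusedSectionVars false
set_option maxHeartbeats 400000

universe u

open CategoryTheory CategoryTheory.Limits AlgebraicGeometry MonoidalCategory CartesianMonoidalCategory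
open MonObj GrpObj

noncomputable section

namespace Groth.Agent.DynX.ParRoots

open RedCell22

section Change

variable {S : Scheme.{u}} {G : Over S} [GrpObj G] (D : Red.SplitRed G)
variable {A A' : Type u} [CommRing A] [CommRing A'] {b : Spec (CommRingCat.of A) ⟶ S}
  {b' : Spec (CommRingCat.of A') ⟶ S} {B : Type u} [CommRing B] [Algebra A B] [Algebra A' B]

/-- Root group elements do not depend on the presentation of the test scheme. -/
theorem comp_ua (e : tb b B ⟶ tb b' B) (he : e.left = 𝟙 _) (r : D.idx) (x : B) :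
    e ≫ (ua D r x : tb b' B ⟶ G) = ua D r x := by
  rw [ua, ua, ← Category.assoc]
  congr 1
  refine GrpSchLib.GaPts.gaFn_injective ?_
  show Red.gaFn (e ≫ gaPt x) = Red.gaFn (gaPt x : tb b B ⟶ Red.Ga S)
  rw [GrpSchLib.GaPts.gaFn_comp, gaPt, gaPt, GrpSchLib.GaPts.gaFn_ptOfFn, GrpSchLib.GaPts.gaFn_ptOfFn, he]
  exact congrArg (fun φ => (ConcreteCategory.hom φ) ((gs (b := b') (B := B)).symm x))
    (Scheme.Hom.id_appTop (X := Spec (CommRingCat.of B)))

end Change

section Sub

variable {S : Scheme.{u}} {G P : Over S} [GrpObj G] [GrpObj P] (D : Red.SplitRed G) (p : P ⟶ G) [IsMonHom p]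
  [IsAffineHom G.hom]

/-- The roots of the subgroup at the geometric point over a point of the base. -/
abbrev rootsAt (s : S) : Set D.idx := rootsIn D p (Red.geomPt s) (AlgebraicClosure (S.residueField s))

variable [IsAffineHom P.hom] [IsClosedImmersion p.left] {A : Type u} [CommRing A]
  (b : Spec (CommRingCat.of A) ⟶ S) [IsOpenImmersion b]

/-- A place is in the locus of a list exactly when the roots of the list are roots of the subgroup there. -/
theorem mem_locus_iff_roots {m : ℕ} (l : Fin m → D.idx) (t : PrimeSpectrum A) :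
    t ∈ locus (b := b) p D l ↔ ∀ k, l k ∈ rootsAt D p (b t) := by
  let s : S := b t
  let K := AlgebraicClosure (S.residueField s)
  let β : Spec (CommRingCat.of K) ⟶ S := Red.geomPt s
  have hβ : ∀ z, β z = s := fun z => Scheme.fromSpecResidueField_apply (X := S) s _
  have hr : Set.range β ⊆ Set.range b := by
    rintro _ ⟨z, rfl⟩
    exact ⟨t, (hβ z).symm⟩
  let b'' := IsOpenImmersion.lift b β hr
  letI : Algebra A K := (Spec.preimage b'').hom.toAlgebra
  have hb'' : Spec.map (CommRingCat.ofHom (algebraMap A K)) = b'' := Spec.map_preimage b''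
  have hbβ : Spec.map (CommRingCat.ofHom (algebraMap A K)) ≫ b = β := by
    rw [hb'']; exact IsOpenImmersion.lift_fac _ _ _
  have hker : RingHom.ker (algebraMap A K) = t.asIdeal := by
    let c : Spec (CommRingCat.of K) := IsLocalRing.closedPoint K
    have h1 : Spec.map (CommRingCat.ofHom (algebraMap A K)) c = t :=
      b.isOpenEmbedding.injective (by rw [← Scheme.Hom.comp_apply, hbβ]; exact hβ c)
    have h2 : ((Spec.map (CommRingCat.ofHom (algebraMap A K)) c) : PrimeSpectrum A).asIdeal = t.asIdeal := by rw [h1]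
    refine Eq.trans ?_ h2
    show _ = Ideal.comap (algebraMap A K) (IsLocalRing.maximalIdeal K)
    rw [IsLocalRing.maximalIdeal_eq_bot]
    exact RingHom.ker_eq_comap_bot _
  have hβK : (Over.mk (Spec.map (CommRingCat.ofHom (algebraMap K K)) ≫ β) : Over S).hom =
      Spec.map (CommRingCat.ofHom (algebraMap A K)) ≫ b := by
    show Spec.map (CommRingCat.ofHom (algebraMap K K)) ≫ β = _
    rw [show CommRingCat.ofHom (algebraMap K K) = 𝟙 _ from rfl, Spec.map_id, Category.id_comp, hbβ]
  let e : tb b K ⟶ tb β K := Over.homMk (𝟙 _) ((Category.id_comp _).trans hβK)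
  let e' : tb β K ⟶ tb b K := Over.homMk (𝟙 _) ((Category.id_comp _).trans hβK.symm)
  rw [mem_locus_iff (K := K) p D l t hker]
  constructor
  · intro h k y
    classical
    obtain ⟨q, hq⟩ := h (Pi.single k y)
    have hw : (word D l (Pi.single k y) : tb b K ⟶ G) = ua D (l k) y := by
      refine (ofFn_prod_single _ k fun j hj => ?_).trans (by rw [Pi.single_eq_same])
      rw [Pi.single_eq_of_ne hj, ua_zero]
    rw [hw] at hq
    refine (mem_inP p).mpr ⟨e' ≫ q, ?_⟩
    rw [Category.assoc, hq, comp_ua D e' rfl]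
  · intro h x
    refine (mem_inP p).mp (Subgroup.list_prod_mem _ fun g hg => ?_)
    obtain ⟨k, rfl⟩ := List.mem_ofFn.mp hg
    rw [← comp_ua D e rfl]
    exact inP_comp p e (h k (x k))

end Sub

variable {S : Scheme.{u}} [ConnectedSpace S] {G P : Over S} [GrpObj G] [GrpObj P] (D : Red.SplitRed G) (p : P ⟶ G)

/-- The roots of a parabolic subgroup containing the torus: at every geometric point they are the roots whose root
homomorphism factors through it, and they form a set containing a positive system and stable under the reflections of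
its symmetric part. -/
theorem exists_roots (hP : Red.IsParabolic p) (tP : D.T ⟶ P) (htP : tP ≫ p = D.i) :
    ∃ (R : Set D.idx) (f : D.M →+ ℤ), Par D.P R f ∧ D.P.IsReduced ∧
      ∀ r, (∃ v : Red.Ga S ⟶ P, v ≫ p = D.u r) ↔ r ∈ R := by
  obtain ⟨hp, hpc, hPs, hpar⟩ := hP
  haveI := hp
  haveI := hpc
  haveI := hPs
  haveI : IsAffineHom G.hom := D.reductive.1
  haveI : Smooth G.hom := D.reductive.2.1
  haveI : IsAffineHom P.hom := by rw [← Over.w p]; infer_instance
  haveI : D.P.IsReduced := Groth.Agent.Reduced22.isReduced_of_splitRed D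
  haveI : Mono p := Over.mono_of_mono_left p
  haveI : IsMonHom tP := by
    haveI := D.maximalTorus.1
    constructor
    · rw [← cancel_mono p, Category.assoc, htP, IsMonHom.one_hom, IsMonHom.one_hom]
    · rw [← cancel_mono p, Category.assoc, htP, IsMonHom.mul_hom, Category.assoc, IsMonHom.mul_hom,
        ← Category.assoc]
      congr 1
      rw [MonoidalCategory.tensorHom_comp_tensorHom, htP]
  have hPar : ∀ s, ∃ f, Par D.P (rootsAt D p s) f := fun s => exists_par D p tP htP (hpar s)
  have hchart : ∀ (s : S), ∃ (A : CommRingCat.{u}) (b : Spec A ⟶ S), IsOpenImmersion b ∧ s ∈ Set.range b := by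
    intro s
    obtain ⟨V, hV, hsV, -⟩ := exists_isAffineOpen_mem_and_subset (U := (⊤ : S.Opens)) (x := s) trivial
    exact ⟨_, hV.fromSpec, IsAffineOpen.isOpenImmersion_fromSpec hV, by rw [hV.range_fromSpec]; exact hsV⟩
  have hloc : ∀ (r : D.idx) {A : Type u} [CommRing A] (b : Spec (CommRingCat.of A) ⟶ S) [IsOpenImmersion b]
      (t : PrimeSpectrum A), r ∈ rootsAt D p (b t) → ∃ (m : ℕ) (l : Fin m → D.idx) (f : D.M →+ ℤ),
        PosList D f l ∧ r ∈ Set.range l ∧ t ∈ locus (b := b) p D l := by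
    intro r A _ b _ t hr
    obtain ⟨f, hf⟩ := hPar (b t)
    obtain ⟨f', hf', hpos⟩ := hf.exists_form hr
    obtain ⟨m, l, hl⟩ := exists_posList D f'
    exact ⟨m, l, f', hl, (hl.mem_iff r).mpr hpos,
      (mem_locus_iff_roots D p b l t).mpr fun k => hf'.pos _ ((hl.mem_iff _).mp ⟨k, rfl⟩)⟩
  have hclopen : ∀ r, IsClopen {s : S | r ∈ rootsAt D p s} := by
    intro r
    constructor
    · rw [← isOpen_compl_iff]
      refine isOpen_iff_forall_mem_open.mpr fun s hs => ?_
      obtain ⟨A, b, hb, hsb⟩ := hchart s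
      haveI := hb
      obtain ⟨t, rfl⟩ := hsb
      refine ⟨b '' (locus (b := b) p D ![r])ᶜ, ?_,
        b.isOpenEmbedding.isOpenMap _ (isClosed_locus p D ![r]).isOpen_compl, ⟨t, fun ht => hs ?_, rfl⟩⟩
      · rintro _ ⟨t', ht', rfl⟩ hr
        exact ht' ((mem_locus_iff_roots D p b ![r] t').mpr fun k => by fin_cases k; exact hr)
      · exact (mem_locus_iff_roots D p b ![r] t).mp ht 0
    · refine isOpen_iff_forall_mem_open.mpr fun s hs => ?_
      obtain ⟨A, b, hb, hsb⟩ := hchart s
      haveI := hb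
      obtain ⟨t, rfl⟩ := hsb
      obtain ⟨m, l, f, hl, ⟨k, hk⟩, ht⟩ := hloc r b t hs
      refine ⟨b '' locus (b := b) p D l, ?_,
        b.isOpenEmbedding.isOpenMap _ (isOpen_locus p D l tP htP hl), ⟨t, ht, rfl⟩⟩
      rintro _ ⟨t', ht', rfl⟩
      exact hk ▸ (mem_locus_iff_roots D p b l t').mp ht' k
  obtain ⟨s₀⟩ : Nonempty S := inferInstance
  have hconst : ∀ r s, (r ∈ rootsAt D p s ↔ r ∈ rootsAt D p s₀) := by
    intro r s
    rcases isClopen_iff.mp (hclopen r) with h | h
    · exact iff_of_false (fun hs => (h ▸ (show s ∈ {s : S | r ∈ rootsAt D p s} from hs) : s ∈ (∅ : Set S)))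
        (fun hs => (h ▸ (show s₀ ∈ {s : S | r ∈ rootsAt D p s} from hs) : s₀ ∈ (∅ : Set S)))
    · exact iff_of_true (show s ∈ {s : S | r ∈ rootsAt D p s} from h ▸ trivial)
        (show s₀ ∈ {s : S | r ∈ rootsAt D p s} from h ▸ trivial)
  obtain ⟨f, hf⟩ := hPar s₀
  refine ⟨_, f, hf, inferInstance, fun r => ⟨?_, ?_⟩⟩
  · rintro ⟨v, hv⟩ x
    exact (mem_inP p).mpr ⟨gaPt x ≫ v, by rw [Category.assoc, hv]; rfl⟩
  intro hr
  obtain ⟨f', hf', hpos⟩ := hf.exists_form hr
  obtain ⟨m, l, hl⟩ := exists_posList D f'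
  obtain ⟨k, hk⟩ := (hl.mem_iff r).mpr hpos
  let X := (Red.Ga S).left
  let π : X ⟶ S := (Red.Ga S).hom
  have hW : ∀ z : X, ∃ W : X.Opens, IsAffineOpen W ∧ z ∈ W ∧ ∃ V : S.Opens, IsAffineOpen V ∧ W ≤ π ⁻¹ᵁ V := by
    intro z
    obtain ⟨V, hV, hzV, -⟩ := exists_isAffineOpen_mem_and_subset (U := (⊤ : S.Opens)) (x := π z) trivial
    obtain ⟨W, hW, hzW, hWV⟩ := exists_isAffineOpen_mem_and_subset (U := π ⁻¹ᵁ V) (x := z) hzV
    exact ⟨W, hW, hzW, V, hV, hWV⟩
  choose W hWaff hzW V hV hWV using hW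
  have hlift : ∀ z, ∃ v : (W z).toScheme ⟶ P.left, v ≫ p.left = (W z).ι ≫ (D.u r).left := by
    intro z
    let A := Γ(S, V z)
    let b : Spec (CommRingCat.of A) ⟶ S := (hV z).fromSpec
    haveI : IsOpenImmersion b := inferInstanceAs (IsOpenImmersion (hV z).fromSpec)
    have hbot : eqs (b := b) p D l = ⊥ := eqs_eq_bot p D l tP htP hl fun t =>
      (mem_locus_iff_roots D p b l t).mpr fun j => (hconst _ _).mpr (hf'.pos _ ((hl.mem_iff _).mp ⟨j, rfl⟩))
    let B := Γ(X, W z)
    let c : Spec (CommRingCat.of B) ⟶ X := (hWaff z).fromSpec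
    have hcr : Set.range (c ≫ π) ⊆ Set.range b := by
      rintro _ ⟨w, rfl⟩
      rw [(hV z).range_fromSpec, Scheme.Hom.comp_apply]
      exact hWV z ((hWaff z).range_fromSpec ▸ Set.mem_range_self w : c w ∈ ((W z : X.Opens) : Set X))
    letI : Algebra A B := (Spec.preimage (IsOpenImmersion.lift b (c ≫ π) hcr)).hom.toAlgebra
    let q : tb b B ⟶ Red.Ga S := Over.homMk c (by
      show c ≫ π = Spec.map (CommRingCat.ofHom (algebraMap A B)) ≫ b
      rw [show Spec.map (CommRingCat.ofHom (algebraMap A B)) = IsOpenImmersion.lift b (c ≫ π) hcr from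
        Spec.map_preimage _, IsOpenImmersion.lift_fac])
    classical
    obtain ⟨v, hv⟩ := exists_of_eqs_eq_bot p D l hbot (Pi.single k (gs (Red.gaFn q)) : Fin m → B)
    have hw : (word D l (Pi.single k (gs (Red.gaFn q))) : tb b B ⟶ G) = q ≫ D.u r := by
      refine (ofFn_prod_single _ k fun j hj => ?_).trans ?_
      · rw [Pi.single_eq_of_ne hj, ua_zero]
      · rw [Pi.single_eq_same, hk, ua, gaPt_gaFn]
    rw [hw] at hv
    refine ⟨(hWaff z).isoSpec.hom ≫ v.left, ?_⟩
    rw [Category.assoc]
    refine (congrArg ((hWaff z).isoSpec.hom ≫ ·) (congrArg CommaMorphism.left hv)).trans ?_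
    show (hWaff z).isoSpec.hom ≫ c ≫ (D.u r).left = _
    rw [← Category.assoc]
    exact congrArg (· ≫ (D.u r).left) (hWaff z).isoSpec_hom_fromSpec
  choose v hv using hlift
  let 𝒰 : X.OpenCover := X.openCoverOfIsOpenCover W (TopologicalSpace.IsOpenCover.mk (eq_top_iff.mpr fun z _ =>
    TopologicalSpace.Opens.mem_iSup.mpr ⟨z, hzW z⟩))
  let vg : X ⟶ P.left := 𝒰.glueMorphisms v fun a c => by
    rw [← cancel_mono p.left, Category.assoc, Category.assoc]
    refine (congrArg (pullback.fst (𝒰.f a) (𝒰.f c) ≫ ·) (hv a)).trans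
      (Eq.trans ?_ (congrArg (pullback.snd (𝒰.f a) (𝒰.f c) ≫ ·) (hv c)).symm)
    exact (Category.assoc _ _ _).symm.trans
      ((congrArg (· ≫ (D.u r).left) pullback.condition).trans (Category.assoc _ _ _))
  have hvg : vg ≫ p.left = (D.u r).left := 𝒰.hom_ext _ _ fun a => by
    rw [← Category.assoc, Scheme.Cover.ι_glueMorphisms]
    exact hv a
  exact ⟨Over.homMk vg (by rw [← Over.w p, reassoc_of% hvg]; exact Over.w _), Over.OverMorphism.ext hvg⟩

end Groth.Agent.DynX.ParRoots
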